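import Mathlib
import Groth.Agent.AssLib.Structure
import Groth.Agent.S10887
import Groth.Agent.RegLocal.Basic

/-!
# Flatness over one-dimensional regular schemes and associated points
-/

set_option autoImplicit false
set_option backward.isDefEq.respectTransparency false
set_option linter.style.haveILetI false

universe u

open CategoryTheory AlgebraicGeometry

namespace Groth.Agent.DedFlatLib

variable {X Y : Scheme.{u}} (f : X ⟶ Y)

/-- A point with zero-dimensional local ring has no proper generalisation. -/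
theorem eq_of_specializes_of_dim_zero {y η : Y} (h : η ⤳ y) (hd : ringKrullDim (Y.presheaf.stalk y) = 0) :
    η = y := by
  obtain ⟨q, rfl⟩ : η ∈ Set.range (Y.fromSpecStalk y) := by rw [Scheme.range_fromSpecStalk]; exact h
  haveI : Ring.KrullDimLE 0 (Y.presheaf.stalk y) := Ring.krullDimLE_iff.2 hd.le
  have : q = IsLocalRing.closedPoint (Y.presheaf.stalk y) :=
    PrimeSpectrum.ext (IsLocalRing.eq_maximalIdeal inferInstance)
  rw [this, Scheme.fromSpecStalk_closedPoint]

/-- Over a base with regular local rings of dimension at most one, a morphism mapping associated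
points to points of dimension zero is flat. -/
theorem flat_of_assPoints [IsLocallyNoetherian X] (hreg : ∀ y : Y, IsRegularLocalRing (Y.presheaf.stalk y))
    (hdim : ∀ y : Y, ringKrullDim (Y.presheaf.stalk y) ≤ 1)
    (hass : ∀ x : X, Curv2.IsAssPoint (Coh.structureModule X) x → ringKrullDim (Y.presheaf.stalk (f.base x)) = 0) :
    Flat f := by
  rw [Flat.iff_flat_stalkMap]
  intro x
  haveI := hreg (f x)
  haveI : IsDomain (Y.presheaf.stalk (f x)) := RegLocal.isDomain _
  haveI := S10887.isPrincipalIdealRing_of_dim_le_one _ (hdim (f x))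
  algebraize [(f.stalkMap x).hom]
  refine RingHom.flat_algebraMap_iff.2 ?_
  rw [Module.Flat.flat_iff_torsion_eq_bot_of_isBezout, eq_bot_iff]
  rintro c ⟨⟨a, ha⟩, hac⟩
  rw [Submodule.mem_bot]
  by_contra hc
  haveI : IsNoetherianRing (X.presheaf.stalk x) := inferInstance
  have hzd : algebraMap (Y.presheaf.stalk (f x)) (X.presheaf.stalk x) a ∈
      ⋃ P ∈ associatedPrimes (X.presheaf.stalk x) (X.presheaf.stalk x), (P : Set (X.presheaf.stalk x)) := by
    rw [biUnion_associatedPrimes_eq_zero_divisors]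
    exact ⟨c, hc, by rw [smul_eq_mul, ← Algebra.smul_def]; exact hac⟩
  obtain ⟨P, hP, haP⟩ := Set.mem_iUnion₂.1 hzd
  let w : X := X.fromSpecStalk x ⟨P, hP.isPrime⟩
  have hwx : w ⤳ x := by
    have : w ∈ Set.range (X.fromSpecStalk x) := ⟨_, rfl⟩
    rwa [Scheme.range_fromSpecStalk] at this
  obtain ⟨W, hW, hxW, -⟩ := exists_isAffineOpen_mem_and_subset (X := X) (U := ⊤) (x := x) trivial
  haveI := QCohLib.isNoetherianRing_section hW
  have hwW : w ∈ W := hwx.mem_open W.2 hxW
  have hass' : Curv2.IsAssPoint (Coh.structureModule X) w := by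
    refine AssLib.isAssPoint_of_mem hW hwW ?_
    letI : Algebra Γ(X, W) (X.presheaf.stalk x) := TopCat.Presheaf.algebra_section_stalk X.presheaf ⟨x, hxW⟩
    haveI := hW.isLocalization_stalk ⟨x, hxW⟩
    haveI : IsLocalizedModule (AssLib.pr hW hxW).primeCompl (Algebra.linearMap Γ(X, W) (X.presheaf.stalk x)) :=
      isLocalizedModule_iff_isLocalization.mpr (by simpa using hW.isLocalization_stalk ⟨x, hxW⟩)
    have h1 : P.comap (algebraMap Γ(X, W) (X.presheaf.stalk x)) ∈ associatedPrimes Γ(X, W) Γ(X, W) :=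
      Module.associatedPrimes.comap_mem_associatedPrimes_of_mem_associatedPrimes_of_isLocalizedModule_of_fg
        (AssLib.pr hW hxW).primeCompl (Algebra.linearMap Γ(X, W) (X.presheaf.stalk x)) _ hP (IsNoetherian.noetherian _)
    have h2 : hW.primeIdealOf ⟨w, hwW⟩ = PrimeSpectrum.comap (algebraMap Γ(X, W) (X.presheaf.stalk x)) ⟨P, hP.isPrime⟩ := by
      refine hW.fromSpec.isOpenEmbedding.injective ?_
      rw [hW.fromSpec_primeIdealOf]
      show X.fromSpecStalk x _ = _
      rw [← hW.fromSpecStalk_eq_fromSpecStalk hxW]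
      rfl
    show (hW.primeIdealOf ⟨w, hwW⟩).asIdeal ∈ associatedPrimes Γ(X, W) Γ(X, W)
    rw [h2]
    exact h1
  have h0 := hass w hass'
  let q : PrimeSpectrum (Y.presheaf.stalk (f x)) :=
    PrimeSpectrum.comap (algebraMap (Y.presheaf.stalk (f x)) (X.presheaf.stalk x)) ⟨P, hP.isPrime⟩
  have hfw : f w = Y.fromSpecStalk (f x) q := by
    rw [← Scheme.Hom.comp_apply, ← Scheme.SpecMap_stalkMap_fromSpecStalk, Scheme.Hom.comp_apply]
    rfl
  let b₀ : Spec (Y.presheaf.stalk (f x)) := ⟨⊥, Ideal.isPrime_bot⟩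
  have hb : Y.fromSpecStalk (f x) b₀ ⤳ Y.fromSpecStalk (f x) q :=
    ((PrimeSpectrum.le_iff_specializes b₀ q).1 (bot_le (a := q.asIdeal))).map (Y.fromSpecStalk (f x)).continuous
  rw [← hfw] at hb
  have he := eq_of_specializes_of_dim_zero hb h0
  rw [hfw] at he
  have : a ∈ (⊥ : Ideal (Y.presheaf.stalk (f x))) := by
    rw [show (⊥ : Ideal (Y.presheaf.stalk (f x))) = b₀.asIdeal from rfl,
      (Y.fromSpecStalk (f x)).isEmbedding.injective he]
    exact haP
  exact nonZeroDivisors.ne_zero ha this

/-- Over a regular base a flat morphism maps associated points to points of dimension zero. -/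
theorem dim_zero_of_flat [IsLocallyNoetherian X] [Flat f] (hreg : ∀ y : Y, IsRegularLocalRing (Y.presheaf.stalk y))
    (x : X) (hx : Curv2.IsAssPoint (Coh.structureModule X) x) :
    ringKrullDim (Y.presheaf.stalk (f.base x)) = 0 := by
  haveI := hreg (f x)
  haveI : IsDomain (Y.presheaf.stalk (f x)) := RegLocal.isDomain _
  refine ringKrullDim_eq_zero_of_isField ?_
  rw [IsLocalRing.isField_iff_maximalIdeal_eq]
  by_contra hne
  obtain ⟨a, ha, ha0⟩ := Submodule.exists_mem_ne_zero_of_ne_bot hne
  obtain ⟨hP, c, hc⟩ := (isAssociatedPrime_iff_exists_injective_linearMap _ _).1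
    ((AssLib.isAssPoint_structureModule_iff x).1 hx)
  algebraize [(f.stalkMap x).hom]
  haveI : Module.Flat (Y.presheaf.stalk (f x)) (X.presheaf.stalk x) := Flat.stalkMap f x
  have hm : algebraMap (Y.presheaf.stalk (f x)) (X.presheaf.stalk x) a ∈ IsLocalRing.maximalIdeal (X.presheaf.stalk x) :=
    map_nonunit (f.stalkMap x).hom a ha
  have h1 : algebraMap (Y.presheaf.stalk (f x)) (X.presheaf.stalk x) a • c 1 = 0 := by
    rw [← map_smul, Algebra.smul_def, mul_one, show algebraMap _ (X.presheaf.stalk x ⧸ _) _ =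
      Ideal.Quotient.mk _ _ from rfl, Ideal.Quotient.eq_zero_iff_mem.2 hm, map_zero]
  have h2 : c 1 = 0 := by
    have hr : IsSMulRegular (X.presheaf.stalk x) (algebraMap (Y.presheaf.stalk (f x)) (X.presheaf.stalk x) a) :=
      ((isRegular_iff_ne_zero.2 ha0).left.isSMulRegular).of_flat
    exact hr (show _ • c 1 = _ • (0 : X.presheaf.stalk x) by rw [h1, smul_zero])
  exact one_ne_zero (hc (h2.trans (map_zero c).symm))

end Groth.Agent.DedFlatLib
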